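import Mathlib

/-!
# The arithmetic of the order formula with semidihedral Sylow 2-subgroups

From the two counts, the parity conditions and the regularity, the signed degree `f` is `Q (Q - 1)` or `Q ^ 3 - 1`.
-/

set_option autoImplicit false

namespace Cfsg.Lib.SemiOrder

theorem divisor_solutions {Q k l : ℤ} (hQ : 3 ≤ |Q|) (h : k * (1 - Q * l) = Q - l) :
    l = 0 ∨ l = Q ∨ l = 1 ∨ l = -1 := by
  by_contra hc
  simp only [not_or] at hc
  obtain ⟨h0, hlQ, h1, h2⟩ := hc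
  have hl : 2 ≤ |l| := by
    rcases abs_cases l with h | h <;> omega
  have hk : 2 ≤ |k| := by
    by_contra hk
    have hk' : k = 0 ∨ k = 1 ∨ k = -1 := by rcases abs_cases k with h | h <;> omega
    rcases hk' with rfl | rfl | rfl
    · exact hlQ (by linarith)
    · have e : (1 - Q) * (1 + l) = 0 := by linear_combination h
      rcases mul_eq_zero.1 e with e | e
      · rcases abs_cases Q with h | h <;> omega
      · exact h2 (by linarith)
    · have e : (Q + 1) * (l - 1) = 0 := by linear_combination h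
      rcases mul_eq_zero.1 e with e | e
      · rcases abs_cases Q with h | h <;> omega
      · exact h1 (by linarith)
  have e1 : |k| * |1 - Q * l| = |Q - l| := by rw [← abs_mul, h]
  have e2 : |Q - l| ≤ |Q| + |l| := abs_sub _ _
  have e3 : |Q| * |l| - 1 ≤ |1 - Q * l| := by
    have := abs_sub_abs_le_abs_sub (Q * l) 1
    rw [abs_mul, abs_one] at this
    rwa [abs_sub_comm] at this
  have e4 : 2 * |1 - Q * l| ≤ |k| * |1 - Q * l| := mul_le_mul_of_nonneg_right hk (abs_nonneg _)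
  have e5 : 3 * |l| ≤ |Q| * |l| := mul_le_mul_of_nonneg_right hQ (abs_nonneg _)
  have e6 : |Q| * 2 ≤ |Q| * |l| := mul_le_mul_of_nonneg_left hl (abs_nonneg _)
  linarith

/-- The value of the signed degree. -/
theorem degree_cases {p n : ℕ} (hp : p.Prime) {Q : ℤ} (hQ : Q.natAbs = p ^ n) (hQ3 : 3 ≤ |Q|)
    (hQ4 : Q % 4 = 3) {c' N' : ℕ} (hc : IsCoprime Q (c' : ℤ)) (hN : Odd N') {f g : ℤ} (hf : Even f)
    (hf0 : f ≠ 0) (hg : (Q ^ 2 - 1 - f) * g = Q ^ 2 * f)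
    (h : Q * ((N' : ℤ) * (f - Q + 1) ^ 2) = (c' : ℤ) ^ 2 * ((Q + 1) * (Q ^ 2 - 1)) * (f * (f + 1))) :
    f = Q * (Q - 1) ∨ f = Q ^ 3 - 1 := by
  have hQ0 : Q ≠ 0 := fun e => by rw [e] at hQ3; norm_num at hQ3
  have hcop : IsCoprime Q ((c' : ℤ) ^ 2 * ((Q + 1) * (Q ^ 2 - 1))) := by
    refine IsCoprime.mul_right hc.pow_right (IsCoprime.mul_right ?_ ?_)
    · exact ⟨-1, 1, by ring⟩
    · exact ⟨Q, -1, by ring⟩
  have hQabs : ∀ {x : ℤ}, ¬ (p : ℤ) ∣ x → IsCoprime Q x := fun {x} hx => by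
    rw [Int.isCoprime_iff_gcd_eq_one, Int.gcd, hQ]
    exact ((Nat.Prime.coprime_iff_not_dvd hp).2 fun h => hx (Int.natCast_dvd.2 h)).pow_left n
  have hdvd : Q ∣ f * (f + 1) := hcop.dvd_of_dvd_mul_left ⟨_, h.symm⟩
  have finish : ∀ {F : ℤ}, F = Q ^ 4 - 1 ∨ F = -Q ^ 3 - 1 ∨ F = Q * (Q + 1) → f = F → False := by
    intro F hF e
    have h8 : (8 : ℤ) ∣ (c' : ℤ) ^ 2 * ((Q + 1) * (Q ^ 2 - 1)) * (f * (f + 1)) := by
      obtain ⟨j, hj⟩ : ∃ j, Q = 4 * j + 3 := ⟨Q / 4, by omega⟩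
      exact ((Dvd.intro ((j + 1) * (2 * j + 1)) (show (8 : ℤ) * ((j + 1) * (2 * j + 1)) = Q ^ 2 - 1 by
        rw [hj]; ring)).mul_left (Q + 1) |>.mul_left _).mul_right _
    obtain ⟨i, hi⟩ : ∃ i, f - Q + 1 = 2 * (2 * i + 1) := by
      obtain ⟨j, hj⟩ : ∃ j, Q = 4 * j + 3 := ⟨Q / 4, by omega⟩
      rcases hF with rfl | rfl | rfl
      · exact ⟨64 * j ^ 4 + 192 * j ^ 3 + 216 * j ^ 2 + 107 * j + 19, by rw [e, hj]; ring⟩
      · exact ⟨-(16 * j ^ 3 + 36 * j ^ 2 + 28 * j + 8), by rw [e, hj]; ring⟩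
      · exact ⟨4 * j ^ 2 + 6 * j + 2, by rw [e, hj]; ring⟩
    rw [← h, hi] at h8
    obtain ⟨r, hr⟩ := h8
    have hodd : Odd (Q * (N' : ℤ) * (2 * i + 1) ^ 2) :=
      ((Int.odd_iff.2 (by omega)).mul ((Int.odd_coe_nat _).2 hN)).mul (Odd.pow ⟨i, rfl⟩)
    obtain ⟨t, ht⟩ := hodd
    have : (4 : ℤ) * (2 * t + 1) = 8 * r := by rw [← ht]; linear_combination hr
    omega
  by_cases hpf : (p : ℤ) ∣ f
  · -- `Q ∣ f`
    have hpf1 : ¬ (p : ℤ) ∣ f + 1 := fun h1 => by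
      have h2 := dvd_sub h1 hpf
      rw [add_sub_cancel_left] at h2
      exact hp.ne_one (Nat.dvd_one.1 (Int.natCast_dvd.1 h2))
    obtain ⟨t, rfl⟩ := (hQabs hpf1).dvd_of_dvd_mul_right hdvd
    obtain ⟨u, hu⟩ : Q ^ 2 ∣ g := by
      refine IsCoprime.dvd_of_dvd_mul_left (IsCoprime.pow_left ?_) ⟨_, hg⟩
      exact ⟨Q - t, -1, by ring⟩
    have hu' : (Q ^ 2 - 1 - Q * t) * (u * Q ^ 2) = Q ^ 2 * (Q * t) := by
      rw [mul_comm u, ← hu]; exact hg
    have hu'' : (Q ^ 2 - 1 - Q * t) * u = Q * t := mul_left_cancel₀ (pow_ne_zero 2 hQ0) (by linear_combination hu')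
    obtain ⟨s, hs⟩ : Q ∣ u := by
      have h1 : Q ∣ (Q ^ 2 - 1 - Q * t) * u := ⟨t, hu''⟩
      exact IsCoprime.dvd_of_dvd_mul_left ⟨Q - t, -1, by ring⟩ h1
    have hs' : (Q ^ 2 - 1 - Q * t) * s = t := by
      subst hs
      exact mul_left_cancel₀ hQ0 (by linear_combination hu'')
    -- `k (1 - Q l) = Q - l` with `l = Q - t`
    have key' : (-s) * (1 - Q * (Q - t)) = Q - (Q - t) := by linear_combination hs'
    rcases divisor_solutions hQ3 key' with e | e | e | e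
    · have ht : t = Q := by linarith
      exfalso
      rw [ht, Int.even_mul] at hf
      rcases hf with h | h <;> rw [Int.even_iff] at h <;> omega
    · exact absurd (show Q * t = 0 by rw [show t = 0 by linarith, mul_zero]) hf0
    · exact Or.inl (by rw [show t = Q - 1 by linarith])
    · exact (finish (Or.inr (Or.inr rfl)) (by rw [show t = Q + 1 by linarith])).elim
  · -- `Q ^ 3 ∣ f + 1`
    obtain ⟨a, ha⟩ := (hQabs hpf).dvd_of_dvd_mul_left hdvd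
    have hcop3 : IsCoprime (Q ^ 3) ((c' : ℤ) ^ 2 * ((Q + 1) * (Q ^ 2 - 1)) * f) :=
      (hcop.mul_right (hQabs hpf)).pow_left
    obtain ⟨t, ht⟩ : Q ^ 3 ∣ f + 1 := by
      refine hcop3.dvd_of_dvd_mul_left ⟨(N' : ℤ) * (a - 1) ^ 2, ?_⟩
      rw [show f - Q + 1 = Q * (a - 1) by linear_combination ha] at h
      linear_combination -h
    obtain ⟨rfl⟩ : f = Q ^ 3 * t - 1 ∧ True := ⟨by linarith, trivial⟩
    have h' : (1 - Q * t) * g = Q ^ 3 * t - 1 := mul_left_cancel₀ (pow_ne_zero 2 hQ0) (by linear_combination hg)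
    -- `(1 - Q t) (g + Q ^ 2) = Q ^ 2 - 1`, and the cofactor is `-1` modulo `Q`
    obtain ⟨k, hk⟩ : Q ∣ g + 1 := ⟨t * g + Q ^ 2 * t, by linear_combination h'⟩
    have key : (Q + k) * (1 - Q * t) = Q - t :=
      mul_left_cancel₀ hQ0 (by
        rw [show g = Q * k - 1 by linarith] at h'
        linear_combination h')
    rcases divisor_solutions hQ3 key with e | e | e | e <;> rw [e] at hf hf0 ⊢
    · norm_num at hf
    · exact (finish (Or.inl rfl) (by rw [e]; ring)).elim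
    · exact Or.inr (by ring)
    · exact (finish (Or.inr (Or.inl rfl)) (by rw [e]; ring)).elim

/-- The order formula from the counts. -/
theorem formula {p n : ℕ} (hp : p.Prime) {Q : ℤ} (hQ : Q.natAbs = p ^ n) (hQ3 : 3 ≤ |Q|) (hQ4 : Q % 4 = 3)
    {c c' N N' P : ℕ} (hcP : c = P * c') (hNP : (N : ℤ) = Q ^ 2 * (P : ℤ) ^ 2 * N') (hP : P ≠ 0)
    (hc : IsCoprime Q (c' : ℤ)) (hN : Odd N) {f g : ℤ} (hf : Even f) (hf0 : f ≠ 0)
    (hg : (Q ^ 2 - 1 - f) * g = Q ^ 2 * f)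
    (h : (N : ℤ) * (f - Q + 1) ^ 2 = (c : ℤ) ^ 2 * Q * (Q + 1) * (Q ^ 2 - 1) * (f * (f + 1))) :
    (N : ℤ) * (Q - 1) ^ 2 = (c : ℤ) ^ 2 * Q ^ 2 * (Q + 1) ^ 2 * (Q ^ 2 - Q + 1) ∨
      (N : ℤ) * (Q + 1) ^ 2 = (c : ℤ) ^ 2 * Q ^ 2 * (Q + 1) ^ 2 * (Q ^ 2 + Q + 1) := by
  have hQ0 : Q ≠ 0 := fun e => by rw [e] at hQ3; norm_num at hQ3
  have hP0 : (P : ℤ) ≠ 0 := by exact_mod_cast hP
  have hN' : Odd N' := by
    rcases Nat.even_or_odd N' with ⟨k, hk⟩ | h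
    · exfalso
      have h1 : Odd (N : ℤ) := (Int.odd_coe_nat _).2 hN
      rw [hNP, hk] at h1
      push_cast at h1
      exact Int.not_even_iff_odd.2 h1 ⟨Q ^ 2 * (P : ℤ) ^ 2 * k, by ring⟩
    · exact h
  have h' : Q * ((N' : ℤ) * (f - Q + 1) ^ 2) = (c' : ℤ) ^ 2 * ((Q + 1) * (Q ^ 2 - 1)) * (f * (f + 1)) :=
    mul_left_cancel₀ (mul_ne_zero hQ0 (pow_ne_zero 2 hP0)) (by
      rw [hNP, hcP] at h
      push_cast at h
      linear_combination h)
  rcases degree_cases hp hQ hQ3 hQ4 hc hN' hf hf0 hg h' with rfl | rfl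
  · left
    have h1 : (Q - 1) ^ 2 ≠ 0 := pow_ne_zero 2 (by omega)
    exact mul_left_cancel₀ h1 (by linear_combination h)
  · right
    have h1 : Q ^ 2 * (Q - 1) ^ 2 ≠ 0 := mul_ne_zero (pow_ne_zero 2 hQ0) (pow_ne_zero 2 (by omega))
    exact mul_left_cancel₀ h1 (by linear_combination h)

end Cfsg.Lib.SemiOrder
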