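import Cfsg.Agent.SemiOrder.Spec
import Cfsg.Agent.SemiCyclic.Count.Main

/-!
# The counts and the class of an outer involution
-/

set_option autoImplicit false
set_option linter.unusedSectionVars false
set_option linter.style.haveILetI false

namespace Cfsg.Lib.SemiOrder

open Cfsg Cfsg.Lib.Chars Cfsg.Lib.SemiCyclic

universe u

variable {G : Type u} [Group G] [Fintype G] {z : G} (hz : orderOf z = 2)
  {K : Subgroup (cz z)} [K.Normal] (hK : Odd (Nat.card K)) [Fintype (cz z)] [Fintype (cz z ⧸ K)]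

include hK in
omit [Fintype G] [Fintype (cz z ⧸ K)] [Fintype (cz z)] in
/-- Involutions with the same image are conjugate. -/
theorem conj_of_quot [Finite G] {a w : cz z} (ha : orderOf a = 2) (hw : orderOf w = 2)
    (h : (QuotientGroup.mk a : cz z ⧸ K) = QuotientGroup.mk w) : IsConj w a := by
  have hww : w * w = 1 := by rw [← pow_two, ← hw, pow_orderOf_eq_one]
  have haa : a * a = 1 := by rw [← pow_two, ← ha, pow_orderOf_eq_one]
  set k := w⁻¹ * a with hk
  have hkK : k ∈ K := QuotientGroup.eq.1 h.symm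
  have hconj : w * k * w⁻¹ = k⁻¹ := by
    rw [hk, mul_inv_rev, inv_inv, inv_eq_of_mul_eq_one_right hww, inv_eq_of_mul_eq_one_right haa, ← mul_assoc,
      hww, one_mul]
  obtain ⟨j, hj⟩ := hK
  set l := k ^ (j + 1) with hl
  have hkc : k ^ Nat.card K = 1 := by
    have h : (⟨k, hkK⟩ : K) ^ Nat.card K = 1 := pow_card_eq_one'
    exact congrArg Subtype.val h
  have hll : l * l = k := by
    rw [hl, ← pow_add, show j + 1 + (j + 1) = Nat.card K + 1 by omega, pow_succ, hkc, one_mul]
  refine isConj_iff.2 ⟨l⁻¹, ?_⟩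
  have h1 : w * l * w⁻¹ = l⁻¹ := by rw [hl, ← conj_pow, hconj, inv_pow]
  calc l⁻¹ * w * l⁻¹⁻¹ = l⁻¹ * (w * l * w⁻¹) * w := by group
    _ = (l * l)⁻¹ * w := by rw [h1]; group
    _ = w * k := by
      rw [hll, ← hconj, mul_assoc, inv_mul_cancel, mul_one]
    _ = a := by rw [hk, mul_inv_cancel_left]

include hz hK

/-- The counts, and the centralizer of an outer involution. -/
theorem counts {q : ℕ} (hperf : commutator G = ⊤) (hall : ∀ s : G, orderOf s = 2 → IsConj z s)
    (hq : Odd q) (h3 : 3 ≤ q) (Md : Model (cz z ⧸ K) (QuotientGroup.mk (zel z)) (sgnPrime q)) :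
    ∃ (c : ℕ) (f g : ℤ), Counts z K (sgnPrime q) c f g ∧ ∀ w : cz z, orderOf w = 2 → w ≠ zel z →
      (Nat.card (cz z) : ℤ) = sgnPrime q * (sgnPrime q + 1) * c *
        Nat.card (Subgroup.centralizer ({w} : Set (cz z))) := by
  classical
  obtain ⟨hQ1, hQ2, -, -⟩ := sgnPrime_facts hq h3
  obtain ⟨c, f, g, hc⟩ := counts_of_model hz hperf hall hK hQ1 hQ2 Md.toModel
  refine ⟨c, f, g, hc, fun w hw hwz => ?_⟩
  set zq : cz z ⧸ K := QuotientGroup.mk (zel z)
  have hqw := quot_involution hz hK hw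
  have hwq : (QuotientGroup.mk w : cz z ⧸ K) ≠ zq := fun e => hwz (eq_zel_of_quot hz hK hw e)
  have hfib : ∀ r ∈ outerInv zq, (((invs z).filter fun a => a ≠ zel z).filter
      fun a => (QuotientGroup.mk a : cz z ⧸ K) = r).card = c := fun r hr => by
    simp only [outerInv, Finset.mem_filter, Finset.mem_univ, true_and] at hr
    obtain ⟨v, hv, rfl⟩ := exists_over hz hK hr.1
    rw [← hc.inv_count v (mem_invs.1 hv) (fun h => hr.2 (QuotientGroup.eq.2 h)), card_fibre hz hK (mem_invs.1 hv),
      Finset.filter_filter]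
    refine congrArg Finset.card (Finset.filter_congr fun a _ => ⟨fun h => h.2, fun h => ⟨fun e => hr.2 ?_, h⟩⟩)
    rw [← h, e]
  have hclass : ∀ a : cz z, IsConj w a ↔ a ∈ (invs z).filter fun a => a ≠ zel z := fun a => by
    rw [Finset.mem_filter, mem_invs]
    constructor
    · rintro h
      obtain ⟨g, rfl⟩ := isConj_iff.1 h
      refine ⟨by rw [← MulAut.conj_apply, MulEquiv.orderOf_eq, hw], fun e => hwz ?_⟩
      calc w = g⁻¹ * (g * w * g⁻¹) * g := by group
        _ = zel z := by
          rw [e, mul_assoc, ← Subgroup.mem_center_iff.1 (zel_center z) g, inv_mul_cancel_left]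
    · rintro ⟨ha, haz⟩
      obtain ⟨g', hg'⟩ := isConj_iff.1 (Md.inv_class _ _ hqw hwq (quot_involution hz hK ha)
        fun e => haz (eq_zel_of_quot hz hK ha e))
      obtain ⟨g, rfl⟩ := QuotientGroup.mk_surjective g'
      exact (isConj_iff.2 ⟨g, rfl⟩).trans (conj_of_quot hK ha
        (by rw [← MulAut.conj_apply, MulEquiv.orderOf_eq, hw]) hg'.symm)
  have hmaps : ∀ a ∈ (invs z).filter (fun a => a ≠ zel z), (QuotientGroup.mk a : cz z ⧸ K) ∈ outerInv zq :=
    fun a ha => by
      obtain ⟨h1, h2⟩ := Finset.mem_filter.1 ha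
      simp only [outerInv, Finset.mem_filter, Finset.mem_univ, true_and]
      exact ⟨quot_involution hz hK (mem_invs.1 h1), fun e => h2 (eq_zel_of_quot hz hK (mem_invs.1 h1) e)⟩
  have hH : ∀ r : cz z ⧸ K, IsConj (QuotientGroup.mk w : cz z ⧸ K) r ↔ r ∈ outerInv zq := fun r => by
    simp only [outerInv, Finset.mem_filter, Finset.mem_univ, true_and]
    constructor
    · intro h
      obtain ⟨g, rfl⟩ := isConj_iff.1 h
      refine ⟨by rw [← MulAut.conj_apply, MulEquiv.orderOf_eq, hqw], fun e => hwq ?_⟩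
      have hzc : ∀ g : cz z ⧸ K, g * zq = zq * g := fun g => by
        obtain ⟨x, rfl⟩ := QuotientGroup.mk_surjective g
        exact congrArg QuotientGroup.mk (Subgroup.mem_center_iff.1 (zel_center z) x)
      calc (QuotientGroup.mk w : cz z ⧸ K) = g⁻¹ * (g * QuotientGroup.mk w * g⁻¹) * g := by group
        _ = zq := by rw [e, mul_assoc, ← hzc, inv_mul_cancel_left]
    · rintro ⟨h1, h2⟩
      exact Md.inv_class _ _ hqw hwq h1 h2
  have h1 : Nat.card {a : cz z // IsConj w a} = (outerInv zq).card * c := by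
    rw [Nat.card_congr (Equiv.subtypeEquivRight hclass), Nat.card_eq_fintype_card, Fintype.card_coe,
      Finset.card_eq_sum_card_fiberwise hmaps, Finset.sum_congr rfl hfib, Finset.sum_const, smul_eq_mul]
  have h2 : (outerInv zq).card = Nat.card {r : cz z ⧸ K // IsConj (QuotientGroup.mk w : cz z ⧸ K) r} := by
    rw [Nat.card_congr (Equiv.subtypeEquivRight hH), Nat.card_eq_fintype_card, Fintype.card_coe]
  have h3' : ((outerInv zq).card : ℤ) = sgnPrime q * (sgnPrime q + 1) := by
    have e := Md.class_card _ hqw hwq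
    rw [← card_isConj_mul (QuotientGroup.mk w : cz z ⧸ K), Nat.cast_mul, ← h2] at e
    exact mul_right_cancel₀ (Nat.cast_ne_zero.2 Nat.card_pos.ne') e
  rw [← card_isConj_mul w, h1, Nat.cast_mul, Nat.cast_mul, h3']

end Cfsg.Lib.SemiOrder
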