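import Cfsg.Agent.SemiOrder.Spec
import Cfsg.Agent.SemiCyclic.Shape
import Cfsg.Agent.SemiCyclic.Reduce.Shapes
import Cfsg.Agent.Components.PComponents

/-!
# A simple group with semidihedral Sylow 2-subgroups carries a configuration
-/

set_option autoImplicit false
set_option linter.unusedSectionVars false
set_option linter.style.haveILetI false

namespace Cfsg.Lib.SemiOrder

open Subgroup
open Cfsg.Lib.SemiCyclic (cz zel)
open scoped commutatorElement

universe u v

/-- A copy of a finite field in another universe. -/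
theorem exists_field (F : Type v) [Field F] [Fintype F] : ∃ (F' : Type u) (_ : Field F') (_ : Fintype F'),
    Fintype.card F' = Fintype.card F ∧
      Nonempty (Matrix.SpecialLinearGroup (Fin 2) F ≃* Matrix.SpecialLinearGroup (Fin 2) F') := by
  classical
  letI : Fintype (Shrink.{u} F) := Fintype.ofEquiv F (equivShrink.{u} F)
  let ρ : F ≃+* Shrink.{u} F := (Shrink.ringEquiv.{u} F).symm
  refine ⟨Shrink.{u} F, inferInstance, inferInstance, Fintype.card_congr (equivShrink.{u} F).symm, ⟨?_⟩⟩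
  exact
    { toFun := Matrix.SpecialLinearGroup.map ρ.toRingHom
      invFun := Matrix.SpecialLinearGroup.map ρ.symm.toRingHom
      left_inv := fun g => by ext i j; simp
      right_inv := fun g => by ext i j; simp
      map_mul' := fun a b => map_mul _ a b }

variable {G : Type u} [Group G] [Finite G]

theorem perfect_of_simple [IsSimpleGroup G] (hna : ¬ IsMulCommutative G) : commutator G = ⊤ := by
  rcases IsSimpleGroup.eq_bot_or_eq_top_of_normal (commutator G) inferInstance with h | h
  · refine absurd ⟨⟨fun a b => ?_⟩⟩ hna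
    have : ⁅a, b⁆ ∈ commutator G := commutator_mem_commutator (mem_top a) (mem_top b)
    rw [h, mem_bot, commutatorElement_eq_one_iff_mul_comm] at this
    exact this
  · exact h

theorem setting_of_sd [IsSimpleGroup G] (hG : ¬ IsMulCommutative G) (S : Sylow 2 G)
    (hS : Cfsg.IsQuasiDihedral ↥(S : Subgroup G)) (z : G) (hz : orderOf z = 2) (hzS : z ∈ S)
    (hzc : ∀ s ∈ (S : Subgroup G), s * z = z * s) (F : Type v) [Field F] [Fintype F] (hodd : Odd (Fintype.card F))
    (hL : ∃ N : Subgroup (↥(cz z) ⧸ Cfsg.oddCore ↥(cz z)), N.Normal ∧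
      Nonempty (↥N ≃* Matrix.SpecialLinearGroup (Fin 2) F)) :
    ∃ _ : (Cfsg.oddCore ↥(cz z)).Normal, Setting z (Cfsg.oddCore ↥(cz z)) (Fintype.card F) ∧
      Odd (cz z).index := by
  classical
  haveI : Fact (Nat.Prime 2) := ⟨Nat.prime_two⟩
  have hP := perfect_of_simple hG
  obtain ⟨m, a, b, hg⟩ := Cfsg.Lib.QD.exists_gen hS
  set zS := a ^ ((2 : ℤ) ^ (m - 1)) with hzS'
  have hza : (⟨z, hzS⟩ : (S : Subgroup G)) = zS := by
    refine (Cfsg.Lib.SemiCyclic.qd_centralizes_pair hg (v := ⟨z, hzS⟩) (x := a) (y := b)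
      (Subtype.ext (hzc _ a.2).symm) (Subtype.ext (hzc _ b.2).symm) ?_).resolve_left fun h => ?_
    · intro h
      have e := hg.2.conj
      rw [← h, mul_inv_cancel_right] at e
      have h2 : (2 : ℤ) ^ m ∣ (2 ^ (m - 1) - 1) - 1 := by
        have e' : a ^ (1 : ℤ) = a ^ ((2 : ℤ) ^ (m - 1) - 1) := by rw [zpow_one]; exact e
        exact Int.modEq_iff_dvd.1 (by
          have := zpow_eq_zpow_iff_modEq.1 e'
          rw [hg.2.ord] at this
          exact_mod_cast this)
      obtain ⟨h1, h2', -⟩ := Cfsg.Lib.QD.pows hg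
      rw [h1, h2'] at h2
      have h4 : (4 : ℤ) ∣ 2 * 2 ^ (m - 2) - 1 - 1 := dvd_trans ⟨2 ^ (m - 2), by ring⟩ h2
      have h5 : (4 : ℤ) ∣ 2 * 2 ^ (m - 2) := by
        refine ⟨2 ^ (m - 3), ?_⟩
        obtain ⟨-, -, h3⟩ := Cfsg.Lib.QD.pows hg
        rw [h3]; ring
      have := dvd_sub h5 h4
      rw [show (2 * 2 ^ (m - 2) - (2 * 2 ^ (m - 2) - 1 - 1) : ℤ) = 2 by ring] at this
      norm_num at this
    · have : z = 1 := congrArg Subtype.val h
      rw [this, orderOf_one] at hz
      omega
  have hA : (zpowers a).index = 2 := Cfsg.Lib.CyclicMax.index_zpowers hg.2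
  have hconj : ∀ s : G, orderOf s = 2 → IsConj z s := fun s hs => by
    obtain ⟨g, c, hc, hgc⟩ := Cfsg.Lib.SemiCyclic.conj_into_cyclic hP S (zpowers a) hA hs
    obtain ⟨k, rfl⟩ := mem_zpowers_iff.1 hc
    have hco : orderOf (a ^ k) = 2 := by
      rw [← Subgroup.orderOf_coe, ← hgc, show g⁻¹ * s * g = MulAut.conj g⁻¹ s by simp, MulEquiv.orderOf_eq, hs]
    rw [(Cfsg.Lib.QD.zpow_order_two hg).1 hco, ← hzS', ← hza] at hgc
    exact isConj_iff.2 ⟨g, by rw [show z = ((⟨z, hzS⟩ : (S : Subgroup G)) : G) from rfl, ← hgc]; group⟩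
  have hSC : (S : Subgroup G) ≤ cz z := fun v hv => mem_centralizer_singleton_iff.2 (hzc v hv)
  have hidx : Odd (cz z).index := by
    rw [Nat.odd_iff]
    have h1 : (cz z).index ∣ (S : Subgroup G).index := index_dvd_of_le hSC
    have h2 := S.not_dvd_index
    by_contra h
    exact h2 ((Nat.dvd_of_mod_eq_zero (by omega)).trans h1)
  set C := cz z
  set SC : Sylow 2 C := S.subtype hSC
  haveI hKn : (Cfsg.oddCore C).Normal := (inferInstance : (Cfsg.pPrimeCore 2 C).Normal)
  set K := Cfsg.oddCore C with hK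
  have hKodd : Odd (Nat.card K) := Nat.coprime_two_right.1 (Cfsg.Lib.Components.coprime_card_pPrimeCore 2)
  set π := QuotientGroup.mk' K
  set T := SC.mapSurjective (QuotientGroup.mk'_surjective K)
  have hTsd : Cfsg.IsQuasiDihedral ((T : Sylow 2 (C ⧸ K)) : Subgroup (C ⧸ K)) := by
    have hinj : Function.Injective (π.subgroupMap (SC : Subgroup C)) := by
      rw [injective_iff_map_eq_one]
      intro v hv
      have h1 : (v : C) ∈ K := (QuotientGroup.eq_one_iff _).1 (congrArg Subtype.val hv)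
      obtain ⟨k, hk⟩ := SC.2 v
      have h2 : orderOf (v : C) ∣ Nat.gcd (Nat.card K) (2 ^ k) := Nat.dvd_gcd (K.orderOf_dvd_natCard h1)
        (orderOf_dvd_of_pow_eq_one (by rw [← SubmonoidClass.coe_pow, hk]; rfl))
      rw [(Nat.coprime_two_right.2 hKodd).pow_right k, Nat.dvd_one, orderOf_eq_one_iff] at h2
      exact Subtype.ext h2
    exact Cfsg.Lib.SemiCyclic.qd_congr (MulEquiv.ofBijective _ ⟨hinj, π.subgroupMap_surjective _⟩)
      (Cfsg.Lib.SemiCyclic.qd_congr (Subgroup.subgroupOfEquivOfLe hSC).symm hS)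
  refine ⟨hKn, ⟨hz, hP, hconj, hKodd, ⟨?_, ?_, hodd, ?_, ?_, Cfsg.Lib.SemiCyclic.qd_all hTsd⟩⟩, hidx⟩
  · have hzC : orderOf (zel z) = 2 := (Subgroup.orderOf_mk _ _).trans hz
    refine orderOf_eq_prime ?_ fun h1 => ?_
    · rw [← QuotientGroup.mk_pow, ← hzC, pow_orderOf_eq_one, QuotientGroup.mk_one]
    · have h2 := K.orderOf_dvd_natCard ((QuotientGroup.eq_one_iff (zel z)).1 h1)
      rw [hzC] at h2
      exact Nat.not_even_iff_odd.2 hKodd (even_iff_two_dvd.2 h2)
  · refine mem_center_iff.2 fun g => ?_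
    obtain ⟨v, rfl⟩ := QuotientGroup.mk_surjective g
    rw [← QuotientGroup.mk_mul, ← QuotientGroup.mk_mul]
    exact congrArg _ (Subgroup.mem_center_iff.1 (Cfsg.Lib.SemiCyclic.zel_center z) v)
  · exact Cfsg.Lib.Components.pPrimeCore_quotient_eq_bot
  · obtain ⟨N, hN, ⟨e⟩⟩ := hL
    obtain ⟨F', _, _, hc, ⟨σ⟩⟩ := exists_field.{u} F
    exact ⟨N, F', inferInstance, inferInstance, hN, hc, ⟨e.trans σ⟩⟩

/-- The centralizer of a four-subgroup. -/
theorem four_centralizer (S : Sylow 2 G) (hS : Cfsg.IsQuasiDihedral ↥(S : Subgroup G)) (z : G) (hz : orderOf z = 2)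
    (hzS : z ∈ S) (hzc : ∀ s ∈ (S : Subgroup G), s * z = z * s) (U : Subgroup G) (hUS : U ≤ S)
    (hU : IsKleinFour ↥U) :
    ∃ w : cz z, orderOf w = 2 ∧ w ≠ zel z ∧
      Nat.card ↥(centralizer (U : Set G)) = Nat.card ↥(centralizer ({w} : Set (cz z))) := by
  classical
  have hU2 : ∀ x ∈ U, x * x = 1 := fun x hx => by
    have h : (⟨x, hx⟩ : U) ^ 2 = 1 := by
      rw [← hU.exponent_two]; exact Monoid.pow_exponent_eq_one _
    rw [← pow_two]
    exact congrArg Subtype.val h
  have hzz : z * z = 1 := by rw [← pow_two, ← hz, pow_orderOf_eq_one]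
  set W : Subgroup G :=
    { carrier := {x | x ∈ U ∨ x * z ∈ U}
      one_mem' := Or.inl (one_mem U)
      mul_mem' := by
        intro x y hx hy
        simp only [Set.mem_ofPred_eq] at hx hy ⊢
        have hcy : y ∈ (S : Subgroup G) := by
          rcases hy with hy | hy
          · exact hUS hy
          · have := mul_mem (hUS hy) hzS
            rwa [mul_assoc, hzz, mul_one] at this
        have hc := hzc y hcy
        rcases hx with hx | hx <;> rcases hy with hy | hy
        · exact Or.inl (mul_mem hx hy)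
        · exact Or.inr (by rw [mul_assoc]; exact mul_mem hx hy)
        · exact Or.inr (by rw [mul_assoc, hc, ← mul_assoc]; exact mul_mem hx hy)
        · left
          rw [show x * y = x * z * (y * z) by
            rw [hc, ← mul_assoc, mul_assoc x z z, hzz, mul_one]]
          exact mul_mem hx hy
      inv_mem' := by
        intro x hx
        simp only [Set.mem_ofPred_eq] at hx ⊢
        rcases hx with hx | hx
        · exact Or.inl (inv_mem hx)
        · right
          have hxS : x ∈ (S : Subgroup G) := by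
            have := mul_mem (hUS hx) hzS
            rwa [mul_assoc, hzz, mul_one] at this
          have := inv_mem hx
          rw [mul_inv_rev, inv_eq_of_mul_eq_one_right hzz] at this
          rwa [← hzc _ (inv_mem hxS)] at this } with hW
  have hWS : W ≤ S := by
    rintro x (hx | hx)
    · exact hUS hx
    · have := mul_mem (hUS hx) hzS
      rwa [mul_assoc, hzz, mul_one] at this
  have hzU : z ∈ U := by
    have h4 : Nat.card ↥(W.subgroupOf (S : Subgroup G)) ≤ 4 := by
      refine Cfsg.Lib.SemiCyclic.sd_exponent_two_card hS _ fun x hx => ?_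
      apply Subtype.ext
      rcases mem_subgroupOf.1 hx with h | h
      · exact hU2 _ h
      · have h' := hU2 _ h
        show (x : G) * x = 1
        calc (x : G) * x = (x : G) * x * (z * z) := by rw [hzz, mul_one]
          _ = (x : G) * ((x : G) * z) * z := by group
          _ = (x : G) * (z * (x : G)) * z := by rw [hzc _ x.2]
          _ = (x : G) * z * ((x : G) * z) := by group
          _ = 1 := h'
    rw [Nat.card_congr (subgroupOfEquivOfLe hWS).toEquiv, ← hU.card_four] at h4
    have hle : U ≤ W := fun x hx => Or.inl hx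
    rw [Subgroup.eq_of_le_of_card_ge hle h4]
    exact Or.inr (by rw [hzz]; exact one_mem U)
  obtain ⟨w, hwU, hw1, hwz⟩ : ∃ w ∈ U, w ≠ 1 ∧ w ≠ z := by
    by_contra h
    push Not at h
    have h2 : Nat.card U ≤ Nat.card (Fin 2) :=
      Nat.card_le_card_of_injective (fun x : U => if (x : G) = 1 then (0 : Fin 2) else 1) fun x y e => by
        apply Subtype.ext
        by_cases hx : (x : G) = 1 <;> by_cases hy : (y : G) = 1 <;> simp only [hx, hy, ↓reduceIte] at e ⊢
        · exact absurd e (by decide)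
        · exact absurd e (by decide)
        · rw [h _ x.2 hx, h _ y.2 hy]
    rw [hU.card_four, Nat.card_fin] at h2
    omega
  have hwo : orderOf w = 2 := orderOf_eq_prime (by rw [pow_two]; exact hU2 w hwU) hw1
  have hwC : w ∈ cz z := mem_centralizer_singleton_iff.2 (hzc w (hUS hwU))
  refine ⟨⟨w, hwC⟩, by rw [Subgroup.orderOf_mk, hwo], fun e => hwz (congrArg Subtype.val e), ?_⟩
  have hU4 : ∀ x ∈ U, x = 1 ∨ x = z ∨ x = w ∨ x = z * w := fun x hx => by
    by_contra h
    simp only [not_or] at h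
    obtain ⟨h1, h2, h3, h4⟩ := h
    have hz1 : z ≠ 1 := fun e => by rw [e, orderOf_one] at hz; omega
    have h5 : z * w ≠ 1 := fun e => hwz ((eq_inv_of_mul_eq_one_right e).trans (inv_eq_of_mul_eq_one_right hzz))
    have hsub : ({⟨1, one_mem U⟩, ⟨z, hzU⟩, ⟨w, hwU⟩, ⟨z * w, mul_mem hzU hwU⟩, ⟨x, hx⟩} : Finset U).card = 5 := by
      have e1 : z * w ≠ z := fun e => hw1 (mul_eq_left.1 e)
      have e2 : z * w ≠ w := fun e => hz1 (mul_eq_right.1 e)
      simp [Subtype.ext_iff, Ne.symm hz1, Ne.symm hw1, Ne.symm h5, Ne.symm h1, Ne.symm hwz, Ne.symm e1,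
        Ne.symm e2, Ne.symm h2, Ne.symm h3, Ne.symm h4]
    letI := Fintype.ofFinite U
    have := Finset.card_le_univ ({⟨1, one_mem U⟩, ⟨z, hzU⟩, ⟨w, hwU⟩, ⟨z * w, mul_mem hzU hwU⟩, ⟨x, hx⟩} : Finset U)
    rw [hsub, ← Nat.card_eq_fintype_card, hU.card_four] at this
    omega
  refine Nat.card_congr
    { toFun := fun x => ⟨⟨x.1, mem_centralizer_singleton_iff.2 (mem_centralizer_iff.1 x.2 z hzU).symm⟩,
        mem_centralizer_singleton_iff.2 (Subtype.ext (mem_centralizer_iff.1 x.2 w hwU).symm)⟩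
      invFun := fun y => ⟨((y : cz z) : G), mem_centralizer_iff.2 fun x hx => ?_⟩
      left_inv := fun x => rfl
      right_inv := fun y => rfl }
  have hyz : Commute ((y : cz z) : G) z := mem_centralizer_singleton_iff.1 (y : cz z).2
  have hyw : Commute ((y : cz z) : G) w := congrArg Subtype.val (mem_centralizer_singleton_iff.1 y.2)
  rcases hU4 x hx with rfl | rfl | rfl | rfl
  · rw [one_mul, mul_one]
  · exact hyz.eq.symm
  · exact hyw.eq.symm
  · exact (hyz.mul_right hyw).eq.symm

end Cfsg.Lib.SemiOrder
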