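import Cfsg.Agent.SemiOrder.Arith
import Cfsg.Agent.SemiOrder.Count
import Cfsg.Agent.SemiOrder.Local
import Mathlib.NumberTheory.Padics.PadicVal.Basic

/-!
# The order formula for semidihedral Sylow 2-subgroups
-/

set_option autoImplicit false
set_option linter.unusedSectionVars false
set_option linter.style.haveILetI false

namespace Cfsg.Lib.SemiOrder

open Subgroup
open Cfsg.Lib.SemiCyclic (cz zel sgnPrime)

universe u v

variable {G : Type u} [Group G] [Finite G]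

/-- The semidihedral half of Brauer's order formula, from the test functions on `C / K`. -/
theorem formula_of_model (hmodel : ModelSpec.{u}) [IsSimpleGroup G] (hG : ¬ IsMulCommutative G) (S : Sylow 2 G)
    (hS : Cfsg.IsQuasiDihedral ↥(S : Subgroup G)) (z : G) (hz : orderOf z = 2) (hzS : z ∈ S)
    (hzc : ∀ s ∈ (S : Subgroup G), s * z = z * s) (U : Subgroup G) (hUS : U ≤ S) (hU : IsKleinFour ↥U)
    {p : ℕ} [Fact p.Prime] (hp : p ≠ 2) (n : ℕ) (F : Type v) [Field F] [Fintype F]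
    (hF : Fintype.card F = p ^ n)
    (hL : ∃ N : Subgroup (↥(centralizer ({z} : Set G)) ⧸ Cfsg.oddCore ↥(centralizer ({z} : Set G))), N.Normal ∧
      Nonempty (↥N ≃* Matrix.SpecialLinearGroup (Fin 2) F))
    (hreg : 3 * padicValNat p (Nat.card ↥(centralizer ({z} : Set G))) ≤
      padicValNat p (Nat.card G) + 2 * padicValNat p (Nat.card ↥(centralizer (U : Set G)))) :
    ∃ ε : ℤ, (ε = 1 ∨ ε = -1) ∧
      (Nat.card G : ℤ) * (Nat.card ↥(centralizer (U : Set G)) : ℤ) ^ 2 * ((p : ℤ) ^ n - ε) ^ 2 =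
        (Nat.card ↥(centralizer ({z} : Set G)) : ℤ) ^ 3 * (((p : ℤ) ^ n) ^ 2 - ε * (p : ℤ) ^ n + 1) := by
  classical
  letI := Fintype.ofFinite G
  have hpp : p.Prime := Fact.out
  have hodd : Odd (Fintype.card F) := by rw [hF]; exact (hpp.odd_of_ne_two hp).pow
  obtain ⟨hKn, hset, hNodd⟩ := setting_of_sd hG S hS z hz hzS hzc F hodd hL
  obtain ⟨w, hw, hwz, hCU⟩ := four_centralizer S hS z hz hzS hzc U hUS hU
  letI : Fintype (cz z) := Fintype.ofFinite _
  letI : Fintype (cz z ⧸ Cfsg.oddCore ↥(cz z)) := Fintype.ofFinite _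
  obtain ⟨Md⟩ := hmodel _ _ _ hset.top
  have h3 := hset.top.three_le
  obtain ⟨c, f, g, hc, hC⟩ := counts hz hset.odd_K hset.perfect hset.conj_all hodd h3 Md
  have hC' := hC w hw hwz
  obtain ⟨-, hQ3, hQ4, hQn⟩ := sgnPrime_facts hodd h3
  set Q := sgnPrime (Fintype.card F) with hQdef
  rw [hF] at hQn
  rw [hCU] at hreg ⊢
  set N := (cz z).index with hN
  set CU := Nat.card (centralizer ({w} : Set (cz z))) with hCUdef
  have hC0 : 0 < Nat.card (cz z) := Nat.card_pos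
  have hCU0 : 0 < CU := Nat.card_pos
  have hG' : Nat.card G = N * Nat.card (cz z) := (Subgroup.index_mul_card _).symm
  -- the valuations
  have hQQ : ((Q * (Q + 1)).natAbs : ℤ) = Q * (Q + 1) := by
    rw [Int.natAbs_of_nonneg]
    rcases abs_cases Q with h | h
    · exact mul_nonneg (by omega) (by omega)
    · exact mul_nonneg_of_nonpos_of_nonpos (by omega) (by omega)
  have hCn : Nat.card (cz z) = p ^ n * (Q + 1).natAbs * c * CU := by
    have e : ((p ^ n * (Q + 1).natAbs * c * CU : ℕ) : ℤ) = (Nat.card (cz z) : ℤ) := by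
      rw [hC', ← hQn, ← Int.natAbs_mul]
      push_cast [hQQ]
      rfl
    exact_mod_cast e.symm
  have hQ1 : ¬ p ∣ (Q + 1).natAbs := fun h => by
    have h1 : (p : ℤ) ∣ Q + 1 := Int.natCast_dvd.2 h
    have h2 : (p : ℤ) ∣ Q := by
      rw [Int.natCast_dvd, hQn]
      refine dvd_pow_self _ fun h0 => ?_
      rw [hF, h0, pow_zero] at h3
      omega
    have h3' := dvd_sub h1 h2
    rw [add_sub_cancel_left] at h3'
    exact hpp.ne_one (Nat.dvd_one.1 (Int.natCast_dvd.1 h3'))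
  have hQ10 : (Q + 1).natAbs ≠ 0 := fun h => hQ1 (h ▸ dvd_zero p)
  have hc0 : c ≠ 0 := hc.pos.ne'
  have hN0 : N ≠ 0 := Subgroup.index_ne_zero_of_finite
  have hpn0 : p ^ n ≠ 0 := pow_ne_zero _ hpp.ne_zero
  have hvC : padicValNat p (Nat.card (cz z)) = n + padicValNat p c + padicValNat p CU := by
    rw [hCn, padicValNat.mul (mul_ne_zero (mul_ne_zero hpn0 hQ10) hc0) hCU0.ne',
      padicValNat.mul (mul_ne_zero hpn0 hQ10) hc0, padicValNat.mul hpn0 hQ10, padicValNat.prime_pow,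
      padicValNat.eq_zero_of_not_dvd hQ1, add_zero]
  have hval : 2 * (n + padicValNat p c) ≤ padicValNat p N := by
    rw [hG', padicValNat.mul hN0 hC0.ne'] at hreg
    change 3 * padicValNat p (Nat.card (cz z)) ≤
      padicValNat p N + padicValNat p (Nat.card (cz z)) + 2 * padicValNat p CU at hreg
    omega
  obtain ⟨N', hN'⟩ : p ^ (2 * (n + padicValNat p c)) ∣ N := (padicValNat_dvd_iff_le hN0).2 hval
  obtain ⟨c', hc'⟩ : p ^ padicValNat p c ∣ c := pow_padicValNat_dvd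
  have hcc : ¬ p ∣ c' := fun h => by
    obtain ⟨d, hd⟩ := h
    refine pow_succ_padicValNat_not_dvd (p := p) hc0 ⟨d, ?_⟩
    calc c = p ^ padicValNat p c * c' := hc'
      _ = p ^ (padicValNat p c + 1) * d := by rw [hd, pow_succ, mul_assoc]
  have hcop : IsCoprime Q (c' : ℤ) := by
    rw [Int.isCoprime_iff_gcd_eq_one, Int.gcd, hQn, Int.natAbs_natCast]
    exact (hpp.coprime_iff_not_dvd.2 hcc).pow_left n
  have hQsq : Q ^ 2 = ((p : ℤ) ^ n) ^ 2 := by rw [← Int.natAbs_sq, hQn]; push_cast; rfl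
  have hNP : (N : ℤ) = Q ^ 2 * ((p ^ padicValNat p c : ℕ) : ℤ) ^ 2 * N' := by
    rw [hQsq]
    calc (N : ℤ) = ((p ^ (2 * (n + padicValNat p c)) * N' : ℕ) : ℤ) := by exact_mod_cast hN'
      _ = _ := by push_cast; ring
  have hform := formula hpp hQn hQ3 hQ4 hc' hNP (pow_ne_zero _ hpp.ne_zero) hcop hNodd hc.even hc.f_ne hc.g_eq
    hc.order
  rw [hG']
  change ∃ ε : ℤ, (ε = 1 ∨ ε = -1) ∧ ((N * Nat.card (cz z) : ℕ) : ℤ) * (CU : ℤ) ^ 2 * ((p : ℤ) ^ n - ε) ^ 2 =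
    (Nat.card (cz z) : ℤ) ^ 3 * (((p : ℤ) ^ n) ^ 2 - ε * (p : ℤ) ^ n + 1)
  have hsign : Q = (p : ℤ) ^ n ∨ Q = -(p : ℤ) ^ n := by
    have := Int.natAbs_eq Q
    rw [hQn] at this
    push_cast at this
    exact this
  push_cast
  rcases hform with h | h <;> rcases hsign with e | e
  · exact ⟨1, Or.inl rfl, by rw [← e]; linear_combination (Nat.card (cz z) : ℤ) * (CU : ℤ) ^ 2 * h -
      ((Q ^ 2 - Q + 1) * (Nat.card (cz z) : ℤ) * ((Nat.card (cz z) : ℤ) + Q * (Q + 1) * c * CU)) * hC'⟩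
  · exact ⟨-1, Or.inr rfl, by rw [show (p : ℤ) ^ n = -Q by linarith]; linear_combination (Nat.card (cz z) : ℤ) * (CU : ℤ) ^ 2 * h -
      ((Q ^ 2 - Q + 1) * (Nat.card (cz z) : ℤ) * ((Nat.card (cz z) : ℤ) + Q * (Q + 1) * c * CU)) * hC'⟩
  · exact ⟨-1, Or.inr rfl, by rw [← e]; linear_combination (Nat.card (cz z) : ℤ) * (CU : ℤ) ^ 2 * h -
      ((Q ^ 2 + Q + 1) * (Nat.card (cz z) : ℤ) * ((Nat.card (cz z) : ℤ) + Q * (Q + 1) * c * CU)) * hC'⟩
  · exact ⟨1, Or.inl rfl, by rw [show (p : ℤ) ^ n = -Q by linarith]; linear_combination (Nat.card (cz z) : ℤ) * (CU : ℤ) ^ 2 * h -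
      ((Q ^ 2 + Q + 1) * (Nat.card (cz z) : ℤ) * ((Nat.card (cz z) : ℤ) + Q * (Q + 1) * c * CU)) * hC'⟩

end Cfsg.Lib.SemiOrder
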