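import Cfsg.Agent.SemiCyclic.Spec
import Cfsg.Agent.SemiCyclic.Count.Coords
import Cfsg.Prelude.Def_CaseTheorems

/-!
# The order formula with semidihedral Sylow 2-subgroups: the configuration

`C` is the centralizer of the involution `z` of a simple group, `K` its odd core; `C / K` has a normal `SL(2, q)`,
`q` any odd prime power, and semidihedral Sylow 2-subgroups.  The test functions are those of `SemiCyclic` on
`SL(2, q)` extended by an involution, lifted to `C / K`.
-/

set_option autoImplicit false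

namespace Cfsg.Lib.SemiOrder

open Cfsg Cfsg.Lib.Blocks Cfsg.Lib.SemiCyclic

universe u

/-- `H` has a normal `SL(2, q)`, no normal subgroup of odd order but `1`, and semidihedral Sylow 2-subgroups;
`z` is the central involution. -/
structure Top {H : Type u} [Group H] (z : H) (q : ℕ) : Prop where
  z_ord : orderOf z = 2
  z_center : z ∈ Subgroup.center H
  odd_q : Odd q
  core : Cfsg.oddCore H = ⊥
  sub : ∃ (N : Subgroup H) (F : Type u) (_ : Field F) (_ : Fintype F), N.Normal ∧ Fintype.card F = q ∧
    Nonempty (↥N ≃* Matrix.SpecialLinearGroup (Fin 2) F)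
  sd : ∀ S : Sylow 2 H, Cfsg.IsQuasiDihedral ↥(S : Subgroup H)

theorem Top.three_le {H : Type u} [Group H] {z : H} {q : ℕ} (T : Top z q) : 3 ≤ q := by
  obtain ⟨N, F, _, _, -, hc, -⟩ := T.sub
  have := Fintype.one_lt_card (α := F)
  obtain ⟨j, hj⟩ := T.odd_q
  omega

/-- The configuration. -/
structure Setting {G : Type u} [Group G] (z : G)
    (K : Subgroup ↥(Subgroup.centralizer ({z} : Set G))) [K.Normal] (q : ℕ) : Prop where
  z_ord : orderOf z = 2
  perfect : commutator G = ⊤
  conj_all : ∀ s : G, orderOf s = 2 → IsConj z s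
  odd_K : Odd (Nat.card K)
  top : Top (QuotientGroup.mk (zel z) : ↥(Subgroup.centralizer ({z} : Set G)) ⧸ K) q

/-- The test functions on `H`. -/
structure Model (H : Type u) [Group H] [Fintype H] (z : H) (Q : ℤ) extends SemiCyclic.Model H z Q where
  class_card : ∀ a : H, orderOf a = 2 → a ≠ z →
    (Nat.card H : ℤ) = Q * (Q + 1) * Nat.card (Subgroup.centralizer ({a} : Set H))

/-- The target of the model piece. -/
def ModelSpec : Prop :=
  ∀ (H : Type u) [Group H] [Fintype H] (z : H) (q : ℕ), Top z q → Nonempty (Model H z (sgnPrime q))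

theorem sgnPrime_facts {q : ℕ} (hq : Odd q) (h3 : 3 ≤ q) :
    Odd (sgnPrime q) ∧ 3 ≤ |sgnPrime q| ∧ sgnPrime q % 4 = 3 ∧ (sgnPrime q).natAbs = q := by
  obtain ⟨j, hj⟩ := hq
  refine ⟨?_, ?_, ?_, natAbs_eq⟩
  · rw [Int.odd_iff]; unfold sgnPrime; split_ifs <;> omega
  · rw [Int.abs_eq_natAbs, natAbs_eq]; omega
  · unfold sgnPrime; split_ifs <;> omega
where
  natAbs_eq : (sgnPrime q).natAbs = q := by unfold sgnPrime; split_ifs <;> omega

end Cfsg.Lib.SemiOrder
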